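import Cfsg.Agent.H562.PQR.Iface
import Cfsg.Prelude.Def_Spor_M
import Cfsg.Prelude.Def_Spor_B
import Cfsg.Prelude.Def_LieTwisted

/-!
# Rows `B`, `M` of S3988: the pieces (helper606)

The triples of type `(2, p, c)` come from the sets of the 2-elements of `2.²E₆(2)` in `B` and of `2.(2.²E₆(2))` in `M`:
the average of a nontrivial irreducible character over these sets is at most `0.0031` times its degree.
-/

set_option autoImplicit false

namespace Cfsg.Agent.H606.PQR

open Cfsg Subgroup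
open Cfsg.Agent.H562.PQR

/-- `G` is covered by `n` double cosets of `H` -/
def DC {G : Type*} [Group G] (H : Subgroup G) (n : ℕ) : Prop :=
  ∃ T : Finset G, T.card ≤ n ∧ ∀ g : G, ∃ h ∈ H, ∃ t ∈ T, ∃ k ∈ H, g = h * t * k

/-- `2.²E₆(2)` in `B` -/
def PieceB : Prop := ∃ (K : Type) (_ : Field K) (_ : Fintype K) (H : Subgroup Spor.BabyMonster)
  (σ : ↥H →* ↥(Lie.twistedE6 K 2)), Fintype.card K = 4 ∧ Function.Surjective σ ∧ Nat.card σ.ker = 2 ∧ DC H 20

/-- `2.B` in `M` -/
def PieceM : Prop := ∃ (H : Subgroup Spor.Monster) (φ : ↥H →* Spor.BabyMonster),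
  Function.Surjective φ ∧ Nat.card φ.ker = 2 ∧ DC H 9

/-- an element of order 11 of `B` with a small centralizer -/
def PieceB11 : Prop := ∃ y : Spor.BabyMonster, orderOf y = 11 ∧ Nat.card (centralizer ({y} : Set Spor.BabyMonster)) ≤ 1320

/-- the other primes of `B` -/
def PieceBNot : Prop := ∀ p : ℕ, p.Prime → p ≠ 2 → p ≠ 47 → p ∣ Nat.card Spor.BabyMonster → NotMin p Spor.BabyMonster

/-- the other primes of `M` -/
def PieceMNot : Prop := ∀ p : ℕ, p.Prime → p ≠ 2 → p ≠ 41 → p ≠ 59 → p ≠ 71 → p ∣ Nat.card Spor.Monster →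
  NotMin p Spor.Monster

/-- the elements of order 47 of `M` -/
def PieceM47 : Prop := ∀ y : Spor.Monster, orderOf y = 47 → Nat.card (centralizer ({y} : Set Spor.Monster)) = 94

/-- the elements of order `p = 41, 71` of `M` if all proper subgroups are `p`-solvable -/
def PieceMP (p : ℕ) : Prop := (∀ H : Subgroup Spor.Monster, H ≠ ⊤ → IsPSolvable p H) →
  ∀ y : Spor.Monster, orderOf y = p → Nat.card (centralizer ({y} : Set Spor.Monster)) ≤ 5125

end Cfsg.Agent.H606.PQR
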