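import Cfsg.Agent.H606.PQR.AvgCrit
import Cfsg.Agent.H115.PelQuot
import Cfsg.Agent.Nodes.RGDTwE6
import Cfsg.Agent.H462.T3.MulIrr
import Cfsg.Agent.S2341
import Cfsg.Agent.S1066
import Cfsg.Agent.S1070

/-!
# The `2`-elements of `²E₆(2)` (helper606, for S3988)

Their number is `2 ^ 72` and all nontrivial irreducible characters of `²E₆(2)` have degree at least `1938`.
-/

set_option autoImplicit false

open Cfsg

namespace Cfsg.Agent.H606.Avg

open Cfsg.Agent.Characters.Core

/-- the order of `²E₆(2)` -/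
theorem card_te6 {K : Type} [Field K] [Fintype K] (hK : Fintype.card K = 4) :
    Nat.card ↥(Lie.twistedE6 K 2) = 76532479683774853939200 := by
  have h := Cfsg.Agent.S1066.result (K := K) (q := 2) ⟨2, 1, Nat.prime_two.prime, by norm_num, by norm_num⟩
    (by rw [hK]; norm_num)
  norm_num at h
  omega

theorem isPrimePow_two : IsPrimePow 2 := Nat.prime_two.isPrimePow

/-- the degrees of the nontrivial irreducible characters of `²E₆(2)` -/
theorem degree_te6 {K : Type} [Field K] [Fintype K] (hK : Fintype.card K = 4) (χ : ↥(Lie.twistedE6 K 2) → ℂ)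
    (hχ : IsIrrCharacter _ χ) (h1 : χ ≠ 1) : (1938 : ℝ) ≤ ‖χ 1‖ := by
  have hK' : Fintype.card K = 2 ^ 2 := by rw [hK]; norm_num
  have hs := Cfsg.Agent.S1070.result (K := K) (q := 2) isPrimePow_two hK'
  have := hs.1
  obtain ⟨k, ρ, hρ, e⟩ := hχ
  have hk : χ 1 = k := by
    rw [← e, Representation.char_one, Module.finrank_fin_fun]
  rw [hk, Complex.norm_natCast]
  have hk0 : k ≠ 0 := by
    rintro rfl
    exact isIrr_apply_one_ne_zero ⟨0, ρ, hρ, e⟩ (by rw [hk]; simp)
  have hk1 : k ≠ 1 := by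
    rintro rfl
    refine h1 (Cfsg.Agent.H462.T3.eq_one_of_perfect ?_ ⟨1, ρ, hρ, e⟩ (by rw [hk]; simp))
    rcases (inferInstance : (commutator ↥(Lie.twistedE6 K 2)).Normal).eq_bot_or_eq_top with h | h
    · have h3 := (commutator_eq_bot_iff_center_eq_top _).1 h
      refine absurd ⟨⟨fun a b => ?_⟩⟩ hs.2
      have h4 : b ∈ Subgroup.center ↥(Lie.twistedE6 K 2) := by rw [h3]; exact Subgroup.mem_top b
      exact Subgroup.mem_center_iff.1 h4 a
    · exact h
  have h2 := Cfsg.Agent.S2341.result (K := K) 2 isPrimePow_two hK' k ρ hρ (by omega)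
  norm_num at h2
  exact_mod_cast h2

theorem charP_two {K : Type} [Field K] [Fintype K] (hK : Fintype.card K = 4) : CharP K 2 := by
  obtain ⟨p, hp⟩ := CharP.exists K
  have hpp : p.Prime := CharP.char_is_prime K p
  obtain ⟨n, -, hn⟩ := FiniteField.card K p
  rw [hK] at hn
  have h2 : p ∣ 2 ^ 2 := by
    have : p ∣ p ^ (n : ℕ) := dvd_pow_self p n.2.ne'
    rw [← hn] at this
    exact this
  have h3 := (Nat.prime_dvd_prime_iff_eq hpp Nat.prime_two).1 (hpp.dvd_of_dvd_pow h2)
  rwa [h3] at hp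

/-- the average of the nontrivial irreducible characters over the `2`-elements -/
theorem avg_te6 {K : Type} [Field K] [Fintype K] (hK : Fintype.card K = 4) :
    ∃ R : Finset ↥(Lie.twistedE6 K 2), R.Nonempty ∧ (∀ x ∈ R, ∃ k : ℕ, orderOf x = 2 ^ k) ∧ Avg R (208 / 100000) := by
  classical
  have := Fintype.ofFinite ↥(Lie.twistedE6 K 2)
  have := charP_two hK
  have : Fact (Nat.Prime 2) := ⟨Nat.prime_two⟩
  have hK' : Fintype.card K = 2 ^ 2 := by rw [hK]; norm_num
  have h1 := Cfsg.Agent.H115.card_pel_of_hasRGD' (p := 2) (G := ↥(Lie.twistedE6 K 2))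
    (Cfsg.Agent.Nodes.RGDTwE6.hasRGD (K := K) isPrimePow_two hK' 2) (a := 36) (m := 76532479683774853939200 / 2 ^ 36)
    (by rw [card_te6 hK]; norm_num) (by norm_num)
  refine ⟨Finset.univ.filter fun g => ∃ k : ℕ, orderOf g = 2 ^ k, ⟨1, ?_⟩, fun x hx => (Finset.mem_filter.1 hx).2, ?_⟩
  · exact Finset.mem_filter.2 ⟨Finset.mem_univ _, 0, by simp⟩
  · refine Avg.base (by norm_num) (D := 1938) (by norm_num) (degree_te6 hK) ?_
    rw [Nat.card_eq_fintype_card, Fintype.card_subtype] at h1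
    rw [h1, card_te6 hK]
    norm_num

end Cfsg.Agent.H606.Avg
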