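import Cfsg.Agent.H606.PQR.DCLib
import Cfsg.Agent.H816.MSch
import Cfsg.Agent.H966.RowM

/-!
# `2.B` in the Monster (helper606, for S3988)
-/

set_option autoImplicit false
set_option maxRecDepth 100000

open Subgroup

namespace Cfsg.Agent.H606.PQR

open Cfsg Cfsg.Agent.MonsterX.MainPack

/-- the rank of `M` on its transpositions is nine -/
theorem dc_model_M : DC (centralizer ({tG Cfsg.Agent.MonsterU.Uncond.all.hG Cfsg.Agent.MonsterU.Uncond.all.hR} :
    Set Cfsg.Agent.MonsterX.InstData.M.G)) 9 := by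
  have A := Cfsg.Agent.MonsterU.Uncond.all
  refine DC.of_col (c := Cfsg.Agent.H816.MSch.c) Cfsg.Agent.H816.MSch.c_tr Cfsg.Agent.H816.MSch.b0 fun g hg => ?_
  rw [mem_cent_t_iff' A.hG A.hR A.hL A.hO A.hT]
  exact congrArg Subtype.val hg

theorem pieceM : PieceM := by
  have A := Cfsg.Agent.MonsterU.Uncond.all
  have := Cfsg.Agent.H966.RowM.finite_m
  obtain ⟨f⟩ := Cfsg.Agent.MonsterP.Equiv.equiv
  obtain ⟨y, hy, hyc⟩ := Cfsg.Agent.S5534.result
  have hcy : Nat.card ↥(centralizer ({y} : Set Spor.Monster)) = 2 * 4154781481226426191177580544000000 := by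
    rw [Cfsg.Agent.H966.RowM.card_center hyc, Cfsg.Agent.H713.Spor.B.card_b]
  have hy1 : f y ≠ 1 := by
    intro h
    rw [map_eq_one_iff f f.injective] at h
    rw [h, orderOf_one] at hy
    exact absurd hy (by norm_num)
  have hyy : f y * f y = 1 := by
    rw [← map_mul, ← pow_two, ← hy, pow_orderOf_eq_one, map_one]
  have hcard : Nat.card ↥(centralizer ({f y} : Set _)) = 2 * 4154781481226426191177580544000000 := by
    rw [← hcy]
    refine Nat.card_congr (Equiv.subtypeEquiv f.toEquiv ?_).symm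
    intro a
    rw [mem_centralizer_singleton_iff, mem_centralizer_singleton_iff]
    show _ ↔ f a * f y = f y * f a
    rw [← map_mul, ← map_mul, f.injective.eq_iff]
  have hDC : DC (centralizer ({y} : Set Spor.Monster)) 9 := by
    rcases A.classes (f y) hyy hy1 with ⟨w, hw⟩ | ⟨w, hw⟩
    · exfalso
      rw [Cfsg.Agent.Blocks.SylowIn.card_centralizer_of_isConj (isConj_iff.2 ⟨w, hw⟩),
        Cfsg.Agent.H713.Spor.MOf.card_cent_z A.hG A.hR A.hL A.hO A.hT] at hcard
      exact absurd hcard (by norm_num)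
    · refine DC.cent f.symm (isConj_iff.2 ⟨f.symm w, ?_⟩) dc_model_M
      rw [← map_inv, ← map_mul, ← map_mul, hw, f.symm_apply_apply]
  obtain ⟨hZ, ⟨e⟩, -⟩ := hyc
  refine ⟨centralizer ({y} : Set Spor.Monster), e.toMonoidHom.comp (QuotientGroup.mk' _), ?_, ?_, hDC⟩
  · exact e.surjective.comp (QuotientGroup.mk'_surjective _)
  · have h1 : (e.toMonoidHom.comp (QuotientGroup.mk' (center ↥(centralizer ({y} : Set Spor.Monster))))).ker =
        center ↥(centralizer ({y} : Set Spor.Monster)) := by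
      ext a
      rw [MonoidHom.mem_ker]
      show e _ = 1 ↔ _
      rw [map_eq_one_iff e e.injective]
      exact QuotientGroup.eq_one_iff a
    rw [h1, hZ]

end Cfsg.Agent.H606.PQR
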